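import Groth.Prelude.Def_W4c2movlemaddchowShuffle
import Mathlib.Data.Fin.Tuple.Sort
import Mathlib.Data.Set.Function
import Mathlib.Data.Set.Prod

namespace Groth.Agent.L14.Shuffle
open Equiv W4c2movlemaddchow

variable {r s t a : ℕ}

lemma extRight_castAdd (σ : Perm (Fin a)) (i : Fin a) :
    extRight a t σ (Fin.castAdd t i) = Fin.castAdd t (σ i) := by
  simp [extRight, Equiv.permCongr_apply]

lemma extRight_natAdd (σ : Perm (Fin a)) (l : Fin t) :
    extRight a t σ (Fin.natAdd a l) = Fin.natAdd a l := by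
  simp [extRight, Equiv.permCongr_apply]

/-- the last block of `r + s + t` -/
def eL (r s t : ℕ) (j : Fin (s + t)) : Fin (r + s + t) :=
  (finCongr (Nat.add_assoc r s t)).symm (Fin.natAdd r j)

lemma eL_castAdd (j : Fin s) : eL r s t (Fin.castAdd t j) = Fin.castAdd t (Fin.natAdd r j) :=
  Fin.ext (by simp [eL])

lemma eL_natAdd (l : Fin t) : eL r s t (Fin.natAdd s l) = Fin.natAdd (r + s) l :=
  Fin.ext (by simp [eL]; omega)

lemma eL_strictMono : StrictMono (eL r s t) := fun i j h => by
  rw [Fin.lt_def]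
  simpa [eL] using h

lemma castAdd_castAdd (i : Fin r) :
    (finCongr (Nat.add_assoc r s t)).symm (Fin.castAdd (s + t) i) = Fin.castAdd t (Fin.castAdd s i) :=
  Fin.ext (by simp)

lemma extLeft_eL (σ : Perm (Fin (s + t))) (j : Fin (s + t)) :
    extLeft r s t σ (eL r s t j) = eL r s t (σ j) := by
  simp only [extLeft, eL, Equiv.permCongr_apply, Equiv.symm_symm, Equiv.apply_symm_apply]
  rw [finSumFinEquiv_symm_apply_natAdd]
  simp

lemma extLeft_castAdd (σ : Perm (Fin (s + t))) (i : Fin r) :
    extLeft r s t σ (Fin.castAdd t (Fin.castAdd s i)) = Fin.castAdd t (Fin.castAdd s i) := by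
  rw [← castAdd_castAdd]
  simp only [extLeft, Equiv.permCongr_apply, Equiv.symm_symm, Equiv.apply_symm_apply]
  rw [finSumFinEquiv_symm_apply_castAdd]
  simp

lemma mono_cancel {α : Type*} {n N : ℕ} [Preorder α] {g : Fin n → Fin N} (hg : Monotone g)
    (hgi : Function.Injective g) {h : α → Fin n} (hh : Monotone (g ∘ h)) : Monotone h := by
  intro i j hij
  exact (hg.strictMono_of_injective hgi).le_iff_le.1 (hh hij)

lemma sort_unique {n N : ℕ} {g g' : Fin n → Fin N} (hg : Monotone g) (hg' : Monotone g')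
    (hi : Function.Injective g') (σ σ' : Perm (Fin n)) (h : g ∘ σ = g' ∘ σ') : σ = σ' := by
  have h1 : g = g' ∘ (σ.symm.trans σ') := by
    ext i; have := congrFun h (σ.symm i); simp at this; simp [this]
  have h2 : g' ∘ (Equiv.refl (Fin n)) = g' ∘ (σ.symm.trans σ') := by
    refine Tuple.unique_monotone (by simpa using hg') ?_
    rw [← h1]; exact hg
  ext i
  have := congrArg Fin.val (hi (congrFun h2 (σ i)))
  simpa using this

theorem bijOn_right (r s t : ℕ) :
    Set.BijOn
      (fun p : Perm (Fin (r + s + t)) × Perm (Fin (r + s)) => p.1 * extRight (r + s) t p.2)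
      ({τ | IsShuffle₂ (r + s) t τ} ×ˢ {σ | IsShuffle₂ r s σ})
      {ν | IsShuffle₃ r s t ν} := by
  refine ⟨?_, ?_, ?_⟩
  · rintro ⟨τ, σ⟩ ⟨⟨hτ1, hτ2⟩, ⟨hσ1, hσ2⟩⟩
    refine ⟨?_, ?_, ?_⟩
    · simpa [Function.comp_def, extRight_castAdd] using hτ1.comp hσ1
    · simpa [Function.comp_def, extRight_castAdd] using hτ1.comp hσ2
    · simpa [extRight_natAdd] using hτ2
  · rintro ⟨τ, σ⟩ ⟨⟨hτ1, hτ2⟩, hσ⟩ ⟨τ', σ'⟩ ⟨⟨hτ1', hτ2'⟩, hσ'⟩ h
    simp only at h
    have hi : Function.Injective (fun i : Fin (r + s) => τ' (Fin.castAdd t i)) :=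
      τ'.injective.comp (Fin.castAdd_injective _ _)
    have hσeq : σ = σ' := sort_unique hτ1 hτ1' hi σ σ' (by
      ext i
      have := congrArg (fun π : Perm (Fin (r + s + t)) => π (Fin.castAdd t i)) h
      simp only [Perm.mul_apply, extRight_castAdd] at this
      simp [this])
    subst hσeq
    exact Prod.ext (mul_right_cancel h) rfl
  · intro ν hν
    obtain ⟨h1, h2, h3⟩ := hν
    let f : Fin (r + s) → Fin (r + s + t) := fun i => ν (Fin.castAdd t i)
    have hf : Function.Injective f := ν.injective.comp (Fin.castAdd_injective _ _)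
    let π : Perm (Fin (r + s)) := Tuple.sort f
    have hmono : Monotone (f ∘ π) := Tuple.monotone_sort f
    refine ⟨(ν * extRight (r + s) t π, π.symm), ⟨⟨?_, ?_⟩, ⟨?_, ?_⟩⟩, ?_⟩
    · simpa [extRight_castAdd, f, Function.comp_def] using hmono
    · simpa [extRight_natAdd] using h3
    · exact mono_cancel hmono (hf.comp π.injective) (by simpa [Function.comp_def, f] using h1)
    · exact mono_cancel hmono (hf.comp π.injective) (by simpa [Function.comp_def, f] using h2)
    · simp only [mul_assoc]
      refine Equiv.ext fun x => ?_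
      induction x using Fin.addCases with
      | left i => simp [extRight_castAdd]
      | right l => simp [extRight_natAdd]

theorem bijOn_left (r s t : ℕ) :
    Set.BijOn
      (fun p : Perm (Fin (r + s + t)) × Perm (Fin (s + t)) => p.1 * extLeft r s t p.2)
      ({τ | IsShuffle₂ r (s + t) ((finCongr (Nat.add_assoc r s t)).permCongr τ)} ×ˢ
        {σ | IsShuffle₂ s t σ})
      {ν | IsShuffle₃ r s t ν} := by
  have key : ∀ τ : Perm (Fin (r + s + t)),
      IsShuffle₂ r (s + t) ((finCongr (Nat.add_assoc r s t)).permCongr τ) ↔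
      Monotone (fun i : Fin r => τ (Fin.castAdd t (Fin.castAdd s i))) ∧
        Monotone (fun j => τ (eL r s t j)) := by
    intro τ
    simp only [IsShuffle₂, Equiv.permCongr_apply, castAdd_castAdd, Monotone, eL, Fin.le_def,
      finCongr_apply, Fin.val_cast]
  refine ⟨?_, ?_, ?_⟩
  · rintro ⟨τ, σ⟩ ⟨hτ, ⟨hσ1, hσ2⟩⟩
    obtain ⟨hτ1, hτ2⟩ := (key τ).1 hτ
    refine ⟨?_, ?_, ?_⟩
    · simpa [extLeft_castAdd] using hτ1
    · simpa [Function.comp_def, ← eL_castAdd, extLeft_eL] using hτ2.comp hσ1
    · simpa [Function.comp_def, ← eL_natAdd, extLeft_eL] using hτ2.comp hσ2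
  · rintro ⟨τ, σ⟩ ⟨hτ, hσ⟩ ⟨τ', σ'⟩ ⟨hτ', hσ'⟩ h
    simp only at h
    have hi : Function.Injective (fun i : Fin (s + t) => τ' (eL r s t i)) :=
      τ'.injective.comp eL_strictMono.injective
    have hσeq : σ = σ' := sort_unique ((key τ).1 hτ).2 ((key τ').1 hτ').2 hi σ σ' (by
      ext i
      have := congrArg (fun π : Perm (Fin (r + s + t)) => π (eL r s t i)) h
      simp only [Perm.mul_apply, extLeft_eL] at this
      simp [this])
    subst hσeq
    exact Prod.ext (mul_right_cancel h) rfl
  · intro ν hν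
    obtain ⟨h1, h2, h3⟩ := hν
    let f : Fin (s + t) → Fin (r + s + t) := fun i => ν (eL r s t i)
    have hf : Function.Injective f := ν.injective.comp eL_strictMono.injective
    let π : Perm (Fin (s + t)) := Tuple.sort f
    have hmono : Monotone (f ∘ π) := Tuple.monotone_sort f
    refine ⟨(ν * extLeft r s t π, π.symm), ⟨(key _).2 ⟨?_, ?_⟩, ⟨?_, ?_⟩⟩, ?_⟩
    · simpa [extLeft_castAdd] using h1
    · simpa [extLeft_eL, f, Function.comp_def] using hmono
    · exact mono_cancel hmono (hf.comp π.injective)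
        (by simpa [Function.comp_def, f, eL_castAdd] using h2)
    · exact mono_cancel hmono (hf.comp π.injective)
        (by simpa [Function.comp_def, f, eL_natAdd] using h3)
    · simp only [mul_assoc]
      refine Equiv.ext fun x => ?_
      induction x using Fin.addCases with
      | left i =>
        induction i using Fin.addCases with
        | left i => simp [extLeft_castAdd]
        | right j => simp [← eL_castAdd, extLeft_eL]
      | right l => simp [← eL_natAdd, extLeft_eL]

lemma sign_extRight (σ : Perm (Fin a)) : Perm.sign (extRight a t σ) = Perm.sign σ := by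
  simp [extRight]

lemma sign_extLeft (σ : Perm (Fin (s + t))) : Perm.sign (extLeft r s t σ) = Perm.sign σ := by
  simp [extLeft]

end Groth.Agent.L14.Shuffle
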